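import Groth.Agent.Lib.ProjSpace.TwistBC
import Groth.Agent.Lib.ProjCoh.GlobalFun
import Groth.Agent.Lib.ProjCoh.Twist
import Groth.Agent.Lib.Exchange.NearFibre
import Groth.Agent.Lib.ZarCoh.Morph
import Groth.Agent.Lib.TensorMod.Invertible
import Groth.Agent.H2.Rigid.PushFlat
import Groth.Agent.H3.PicCalc

/-!
# Invertible modules on projective space over a base: the fibres
-/

set_option autoImplicit false
set_option linter.style.haveILetI false

noncomputable section

universe u

open CategoryTheory CategoryTheory.Limits AlgebraicGeometry TopologicalSpace Opposite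

namespace Groth.Agent.Lib.PicProjOver

open Groth.Agent.Lib.TensorMod.Gen Groth.Agent.Lib.ProjSpace

variable (r : ℕ) {S T : Scheme.{u}}

local notation "ℙ" => CohB1.ProjSpaceOver r
local notation "π" => CohB1.ProjSpaceOver.toBase r

theorem isInvertible_twistProjSpace (R : Type u) [CommRing R] (d : ℤ) :
    PicF.IsInvertible (Twist.twistProjSpace r R d) :=
  isInvertible_iff.2 fun x => by
    obtain ⟨i, hi⟩ := Opens.mem_iSup.1 ((Basic.iSup_basicOpen_X_eq_top r R).ge (trivial : x ∈ ⊤))
    exact ⟨_, _, hi, TwistBC.isGen_gen' (n := r) (R := R) d i⟩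

theorem isInvertible_twistOver (S : Scheme.{u}) (d : ℤ) : PicF.IsInvertible (Twist.twistOver r S d) :=
  PicLoc.isInvertible_pullback _ (isInvertible_twistProjSpace r _ d)

/-- Twists are compatible with base change. -/
theorem pullback_overMap (g : T ⟶ S) (d : ℤ) :
    Nonempty ((Scheme.Modules.pullback (BaseChange.overMap r g)).obj (Twist.twistOver r S d) ≅
      Twist.twistOver r T d) := by
  exact ⟨(Scheme.Modules.pullbackComp (BaseChange.overMap r g) _).app _ ≪≫
    (Scheme.Modules.pullbackCongr (BaseChange.overMap_fst r g)).app _⟩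

/-- The fibre over a field-valued point. -/
def pt {K : Type u} [CommRing K] (g : Spec (CommRingCat.of K) ⟶ S) : CohB1.ProjSpace r K ⟶ ℙ S :=
  (BaseChange.overSpecIso r K).inv ≫ BaseChange.overMap r g

theorem isPullback_pt {K : Type u} [CommRing K] (g : Spec (CommRingCat.of K) ⟶ S) :
    IsPullback (pt r g) (CohB1.ProjSpace.toSpec r K) (π S) g := by
  refine (BaseChange.isPullback_overMap r g).of_iso (BaseChange.overSpecIso r K) (Iso.refl _)
    (Iso.refl _) (Iso.refl _) ?_ ?_ (by simp) (by simp)
  · rw [pt, Iso.hom_inv_id_assoc, Iso.refl_hom, Category.comp_id]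
  · rw [BaseChange.overSpecIso_hom_toSpec, Iso.refl_hom, Category.comp_id]

theorem pullback_pt {K : Type u} [CommRing K] (g : Spec (CommRingCat.of K) ⟶ S) (d : ℤ) :
    Nonempty ((Scheme.Modules.pullback (pt r g)).obj (Twist.twistOver r S d) ≅
      Twist.twistProjSpace r K d) := by
  obtain ⟨e⟩ := TwistBC.nonempty_iso r (BaseChange.ulz K) d
  have h : pt r g ≫ pullback.fst (CohB1.ProjSpace.toSpec r (ULift.{u} ℤ)) (specULiftZIsTerminal.from S) =
      BaseChange.projMap r (BaseChange.ulz K) := by
    rw [pt, Category.assoc, BaseChange.overMap_fst, ← BaseChange.overSpecIso_hom_projMap,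
      Iso.inv_hom_id_assoc]
  exact ⟨(Scheme.Modules.pullbackComp (pt r g) _).app _ ≪≫
    (Scheme.Modules.pullbackCongr h).app _ ≪≫ e⟩

/-- Every invertible module is a twist on each field-valued fibre. -/
theorem exists_degree {K : Type u} [Field K] (g : Spec (CommRingCat.of K) ⟶ S)
    (N : (ℙ S).Modules) (hN : PicF.IsInvertible N) :
    ∃ d : ℤ, Nonempty ((Scheme.Modules.pullback (pt r g)).obj N ≅
      (Scheme.Modules.pullback (pt r g)).obj (Twist.twistOver r S d)) := by
  obtain ⟨d, ⟨e⟩⟩ := PicProj.Main.exists_twist_iso (R := K) _ (PicLoc.isInvertible_pullback (pt r g) hN)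
  obtain ⟨e'⟩ := pullback_pt r g d
  exact ⟨d, ⟨e ≪≫ e'.symm⟩⟩

/-- Twists agreeing on a field-valued fibre are equal. -/
theorem degree_unique (hr : 1 ≤ r) {K : Type u} [Field K] (g : Spec (CommRingCat.of K) ⟶ S) {d d' : ℤ}
    (h : Nonempty ((Scheme.Modules.pullback (pt r g)).obj (Twist.twistOver r S d) ≅
      (Scheme.Modules.pullback (pt r g)).obj (Twist.twistOver r S d'))) : d = d' := by
  obtain ⟨h⟩ := h
  obtain ⟨e⟩ := pullback_pt r g d
  obtain ⟨e'⟩ := pullback_pt r g d'
  exact PicProj.Main.twist_iso_unique hr (e.symm ≪≫ h ≪≫ e')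

/-- The scheme-theoretic fibre is projective space over the residue field. -/
def fibreIso (s : S) : (π S).fiber s ≅ CohB1.ProjSpace r (S.residueField s) :=
  (isPullback_pt r (K := S.residueField s) (S.fromSpecResidueField s)).isoPullback.symm

theorem fibreIso_hom_pt (s : S) :
    (fibreIso r s).hom ≫ pt r (S.fromSpecResidueField s) = (π S).fiberι s :=
  IsPullback.isoPullback_inv_fst _

theorem fibreIso_hom_toSpec (s : S) :
    (fibreIso r s).hom ≫ CohB1.ProjSpace.toSpec r (S.residueField s) =
      (π S).fiberToSpecResidueField s :=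
  IsPullback.isoPullback_inv_snd _

theorem bijective_appTop_fibre (s : S) :
    Function.Bijective ((π S).fiberToSpecResidueField s).appTop.hom := by
  haveI := ProjCoh.GlobalFun.isIso_appTop r (S.residueField s)
  rw [← fibreIso_hom_toSpec]
  haveI : IsIso (fibreIso r s).hom.appTop :=
    inferInstanceAs (IsIso (Scheme.Γ.map (fibreIso r s).hom.op))
  rw [Scheme.Hom.comp_appTop]
  exact ConcreteCategory.bijective_of_isIso _

theorem h0_toBase (S : Scheme.{u}) : H2.Rigid.H0 (π S) := fun s => (bijective_appTop_fibre r s).2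

theorem surjective_toBase (S : Scheme.{u}) : Surjective (π S) :=
  ⟨fun s => by
    have h := bijective_appTop_fibre r s
    obtain ⟨z⟩ : Nonempty ((π S).fiber s) := by
      by_contra hne
      rw [not_nonempty_iff] at hne
      haveI : Subsingleton Γ((π S).fiber s, ⊤) := by
        rw [show (⊤ : ((π S).fiber s).Opens) = ⊥ from
          TopologicalSpace.Opens.ext (Set.eq_empty_of_isEmpty _)]
        infer_instance
      exact one_ne_zero ((Scheme.ΓSpecIso (S.residueField s)).commRingCatIsoToRingEquiv.symm.injective.eq_iff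
        |>.1 (h.1 (Subsingleton.elim _ _)))
    exact ⟨(π S).fiberι s z, ((π S).range_fiberι s ▸ Set.mem_range_self z :
      (π S).fiberι s z ∈ π S ⁻¹' {s})⟩⟩

theorem push_toBase (S : Scheme.{u}) : H2.Rigid.Push (π S) :=
  haveI := surjective_toBase r S
  H2.Rigid.PushFlat.push_of_flat_fp (π S) (h0_toBase r S)

theorem subsingleton_h1_fibre (s : S) :
    Subsingleton (Coh.HH ((π S).fiber s) (Coh.structureModule ((π S).fiber s)) 1) := by
  let e := (fibreIso r s).hom
  haveI := ProjCoh.Twist.subsingleton_HH_structureModule r (S.residueField s) one_ne_zero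
  have hη : IsIso ((Scheme.Modules.pullbackPushforwardAdjunction e).unit.app (Coh.structureModule _)) :=
    TensorMod.LocIso.isIso_unit_of_isFinLocFree e
      (fun U => inferInstance)
      (TensorMod.LocFree.of_rank (TensorMod.LocFree.of_isInvertible (PicLoc.isInvertible_structureModule _)))
  let i : Coh.structureModule (CohB1.ProjSpace r (S.residueField s)) ≅
      (Coh.push e).obj (Coh.structureModule ((π S).fiber s)) :=
    @asIso _ _ _ _ _ hη ≪≫ (Scheme.Modules.pushforward e).mapIso (PicLoc.pullbackStructureIso e)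
  haveI : Subsingleton (Coh.HH (CohB1.ProjSpace r (S.residueField s))
      ((Coh.push e).obj (Coh.structureModule ((π S).fiber s))) 1) :=
    (Curves.LES.isoK (A := S.residueField s) i 1).symm.injective.subsingleton
  haveI : (Coh.structureModule ((π S).fiber s)).IsQuasicoherent :=
    TensorMod.QCohInv.isQCoh_of_isInvertible (PicLoc.isInvertible_structureModule _)
  exact (ZarCoh.Morph.affineEquiv e (Coh.structureModule ((π S).fiber s)) 1).symm.injective.subsingleton

/-- Over a locally Noetherian base an invertible module is a twist near each point of the base. -/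
theorem exists_nhd_noetherian [IsLocallyNoetherian S] (N : (ℙ S).Modules) (hN : PicF.IsInvertible N)
    (s : S) : ∃ (d : ℤ) (U : S.Opens), s ∈ U ∧
      Nonempty ((Scheme.Modules.pullback (π S ⁻¹ᵁ U).ι).obj N ≅
        (Scheme.Modules.pullback (π S ⁻¹ᵁ U).ι).obj (Twist.twistOver r S d)) := by
  obtain ⟨d, ⟨e⟩⟩ := exists_degree r (S.fromSpecResidueField s) N hN
  let i := fun M : (ℙ S).Modules => (Scheme.Modules.pullbackCongr (fibreIso_hom_pt r s).symm).app M ≪≫
    ((Scheme.Modules.pullbackComp (fibreIso r s).hom (pt r (S.fromSpecResidueField s))).app M).symm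
  obtain ⟨U, hs, ⟨e'⟩⟩ := ZarCoh.Exchange.NearFibre.exists_iso_near (π S) s (subsingleton_h1_fibre r s)
    N (Twist.twistOver r S d) hN (isInvertible_twistOver r S d)
    ⟨i N ≪≫ (Scheme.Modules.pullback (fibreIso r s).hom).mapIso e ≪≫ (i _).symm⟩
  exact ⟨d, U, hs, ⟨((Scheme.Modules.restrictFunctorIsoPullback _).app N).symm ≪≫ e' ≪≫
    (Scheme.Modules.restrictFunctorIsoPullback _).app _⟩⟩

end Groth.Agent.Lib.PicProjOver
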