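import Groth.Agent.Lib.PicProjOver.Basic
import Groth.Agent.H69.PicStage.Main
import Groth.Agent.H2.Rigid.SubDiagram
import Groth.Agent.Lib.Cube.SeesawGlobal

/-!
# Invertible modules on projective space over an arbitrary base
-/

set_option autoImplicit false
set_option linter.style.haveILetI false

noncomputable section

universe u

open CategoryTheory CategoryTheory.Limits AlgebraicGeometry TopologicalSpace Opposite

namespace Groth.Agent.Lib.PicProjOver

open Groth.Agent.Lib.TensorMod Groth.Agent.Lib.TensorMod.Gen Groth.Agent.Lib.ProjSpace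

variable (r : ℕ) {S T : Scheme.{u}}

local notation "ℙ" => CohB1.ProjSpaceOver r
local notation "πP" => CohB1.ProjSpaceOver.toBase r

theorem hom_ext_over {T : Scheme.{u}} {W : Scheme.{u}} {a b : W ⟶ ℙ T}
    (h₁ : a ≫ pullback.fst (CohB1.ProjSpace.toSpec r (ULift.{u} ℤ)) (specULiftZIsTerminal.from T) =
      b ≫ pullback.fst _ _) (h₂ : a ≫ πP T = b ≫ πP T) : a = b :=
  pullback.hom_ext h₁ h₂

theorem overMap_id (T : Scheme.{u}) : BaseChange.overMap r (𝟙 T) = 𝟙 (ℙ T) := by
  apply hom_ext_over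
  · rw [BaseChange.overMap_fst]; exact (Category.id_comp _).symm
  · rw [BaseChange.overMap_toBase, Category.comp_id]; exact (Category.id_comp _).symm

theorem overMap_comp {A B C : Scheme.{u}} (g : A ⟶ B) (h : B ⟶ C) :
    BaseChange.overMap r (g ≫ h) = BaseChange.overMap r g ≫ BaseChange.overMap r h := by
  apply hom_ext_over
  · rw [BaseChange.overMap_fst, Category.assoc, BaseChange.overMap_fst, BaseChange.overMap_fst]
  · rw [BaseChange.overMap_toBase, Category.assoc, BaseChange.overMap_toBase,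
      BaseChange.overMap_toBase_assoc]

/-- Projective space as a functor of the base. -/
def PF : Scheme.{u} ⥤ Scheme.{u} where
  obj T := ℙ T
  map g := BaseChange.overMap r g
  map_id T := overMap_id r T
  map_comp g h := overMap_comp r g h

section Limit

variable {I : Type u} [SmallCategory I] [IsCofiltered I] {D : I ⥤ Scheme.{u}} (c : Cone D)

theorem π_fst_eq (s : Cone (D ⋙ PF r)) {j j' : I} :
    s.π.app j ≫ pullback.fst (CohB1.ProjSpace.toSpec r (ULift.{u} ℤ)) (specULiftZIsTerminal.from (D.obj j)) =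
      s.π.app j' ≫ pullback.fst _ (specULiftZIsTerminal.from (D.obj j')) := by
  obtain ⟨k, a, b, -⟩ := IsCofilteredOrEmpty.cone_objs j j'
  have key : ∀ {i : I} (a : k ⟶ i),
      s.π.app i ≫ pullback.fst (CohB1.ProjSpace.toSpec r (ULift.{u} ℤ)) (specULiftZIsTerminal.from (D.obj i)) =
        s.π.app k ≫ pullback.fst _ (specULiftZIsTerminal.from (D.obj k)) := fun {i} a => by
    rw [← s.w a, Category.assoc]
    exact congrArg (s.π.app k ≫ ·) (BaseChange.overMap_fst r (D.map a))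
  rw [key a, key b]

/-- The cone on the bases of a cone of projective spaces. -/
def baseCone (s : Cone (D ⋙ PF r)) : Cone D where
  pt := s.pt
  π :=
    { app := fun j => s.π.app j ≫ πP (D.obj j)
      naturality := fun j j' a => by
        show 𝟙 _ ≫ s.π.app j' ≫ πP (D.obj j') = (s.π.app j ≫ πP (D.obj j)) ≫ D.map a
        rw [Category.id_comp, ← s.w a, Category.assoc, Category.assoc]
        exact congrArg (s.π.app j ≫ ·) (BaseChange.overMap_toBase r (D.map a)) }

/-- Projective space commutes with cofiltered limits of the base. -/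
theorem nonempty_isLimit (hc : IsLimit c) : Nonempty (IsLimit ((PF r).mapCone c)) := by
  obtain ⟨i⟩ := IsCofiltered.nonempty (C := I)
  refine ⟨IsLimit.ofExistsUnique fun s => ?_⟩
  have w : (s.π.app i ≫ pullback.fst (CohB1.ProjSpace.toSpec r (ULift.{u} ℤ))
      (specULiftZIsTerminal.from (D.obj i))) ≫ CohB1.ProjSpace.toSpec r (ULift.{u} ℤ) =
      hc.lift (baseCone r s) ≫ specULiftZIsTerminal.from c.pt := specULiftZIsTerminal.hom_ext _ _
  let l : s.pt ⟶ ℙ c.pt := pullback.lift _ _ w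
  refine ⟨l, fun j => hom_ext_over r ?_ ?_, fun m hm => hom_ext_over r ?_ ?_⟩
  · show (l ≫ BaseChange.overMap r (c.π.app j)) ≫ _ = _
    rw [Category.assoc, BaseChange.overMap_fst]
    exact (pullback.lift_fst _ _ w).trans (π_fst_eq r s)
  · show (l ≫ BaseChange.overMap r (c.π.app j)) ≫ _ = _
    rw [Category.assoc, BaseChange.overMap_toBase]
    refine (Category.assoc _ _ _).symm.trans
      ((congrArg (· ≫ c.π.app j) (pullback.lift_snd _ _ w)).trans ?_)
    exact hc.fac (baseCone r s) j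
  · refine Eq.trans ?_ (pullback.lift_fst _ _ w).symm
    rw [← hm i]
    exact (congrArg (m ≫ ·) (BaseChange.overMap_fst r (c.π.app i)).symm).trans (Category.assoc _ _ _).symm
  · refine Eq.trans ?_ (pullback.lift_snd _ _ w).symm
    refine hc.hom_ext fun j => ?_
    refine Eq.trans ?_ (hc.fac (baseCone r s) j).symm
    refine Eq.trans ?_ (congrArg (· ≫ πP (D.obj j)) (hm j))
    refine (Category.assoc _ _ _).trans (Eq.trans ?_ (Category.assoc _ _ _).symm)
    exact congrArg (m ≫ ·) (BaseChange.overMap_toBase r (c.π.app j)).symm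

end Limit

/-- Pullback of an isomorphism along a morphism factoring through the source. -/
theorem iso_of_factor {P A B C : Scheme.{u}} {M M' : C.Modules} (j : A ⟶ C) (g : B ⟶ C) (k : P ⟶ A)
    (h : P ⟶ B) (e : k ≫ j = h ≫ g)
    (i : Nonempty ((Scheme.Modules.pullback j).obj M ≅ (Scheme.Modules.pullback j).obj M')) :
    Nonempty ((Scheme.Modules.pullback h).obj ((Scheme.Modules.pullback g).obj M) ≅
      (Scheme.Modules.pullback h).obj ((Scheme.Modules.pullback g).obj M')) := by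
  obtain ⟨i⟩ := i
  let f := fun L : C.Modules => (Scheme.Modules.pullbackComp h g).app L ≪≫
    (Scheme.Modules.pullbackCongr e.symm).app L ≪≫ ((Scheme.Modules.pullbackComp k j).app L).symm
  exact ⟨f M ≪≫ (Scheme.Modules.pullback k).mapIso i ≪≫ (f M').symm⟩

/-- An invertible module is a twist near each point of the base. -/
theorem exists_nhd (N : (ℙ S).Modules) (hN : PicF.IsInvertible N) (s : S) :
    ∃ (d : ℤ) (U : S.Opens), s ∈ U ∧
      Nonempty ((Scheme.Modules.pullback (πP S ⁻¹ᵁ U).ι).obj N ≅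
        (Scheme.Modules.pullback (πP S ⁻¹ᵁ U).ι).obj (Twist.twistOver r S d)) := by
  obtain ⟨_, ⟨V, hV, rfl⟩, hsV, -⟩ := S.isBasis_affineOpens.exists_subset_of_mem_open
    (Set.mem_univ s) isOpen_univ
  let φ := hV.fromSpec
  haveI : IsOpenImmersion φ := hV.isOpenImmersion_fromSpec
  let B : CommRingCat.{u} := Γ(S, V)
  let D := H2.Rigid.SubDiagram.diagram B
  let cB := H2.Rigid.SubDiagram.cone B
  obtain ⟨hl⟩ := nonempty_isLimit r cB (H2.Rigid.SubDiagram.isLimitCone B)
  haveI : ∀ (i j : (Finset B)ᵒᵖ) (g : i ⟶ j), IsAffineHom ((D ⋙ PF r).map g) := fun i j g =>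
    MorphismProperty.of_isPullback (BaseChange.isPullback_overMap r (D.map g)).flip
      (inferInstanceAs (IsAffineHom (D.map g)))
  haveI hprop : ∀ T : Scheme.{u}, IsProper (πP T) := BaseChange.isProper_toBase (n := r)
  haveI : ∀ i, CompactSpace ((D ⋙ PF r).obj i) := fun i =>
    haveI := hprop (D.obj i)
    have h : CompactSpace (ℙ (D.obj i)) := QuasiCompact.compactSpace_of_compactSpace (πP (D.obj i))
    h
  haveI : ∀ i, QuasiSeparatedSpace ((D ⋙ PF r).obj i) := fun i =>
    haveI := hprop (D.obj i)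
    have h : QuasiSeparatedSpace (ℙ (D.obj i)) := quasiSeparatedSpace_of_quasiSeparated (πP (D.obj i))
    h
  obtain ⟨hcol⟩ := H69.PicStage.Main.isColimit_invCl (D ⋙ PF r) ((PF r).mapCone cB) hl
  let Ψ : ℙ (Spec B) ⟶ ℙ S := BaseChange.overMap r φ
  let x : PicLoc.invCl.obj (op (ℙ (Spec B))) :=
    (⟨PicF.cl ((Scheme.Modules.pullback Ψ).obj N), _, rfl, PicLoc.isInvertible_pullback Ψ hN⟩ :
      PicLoc.PicSet (ℙ (Spec B)))
  obtain ⟨j, y, hy⟩ := Types.jointly_surjective _ hcol x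
  let Q : ℙ (Spec B) ⟶ ℙ (D.obj j.unop) := BaseChange.overMap r (cB.π.app j.unop)
  obtain ⟨_, L, rfl, hL⟩ := y
  obtain ⟨eL⟩ : Nonempty ((Scheme.Modules.pullback Q).obj L ≅ (Scheme.Modules.pullback Ψ).obj N) :=
    PerfPic.Basic.cl_eq_iff.1 (congrArg Subtype.val hy)
  obtain ⟨p, hp⟩ : ∃ p : Spec B, φ p = s := by
    have : s ∈ Set.range hV.fromSpec := by rw [hV.range_fromSpec]; exact hsV
    exact this
  obtain ⟨d, U', hU', hiso⟩ := exists_nhd_noetherian r L hL (cB.π.app j.unop p)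
  obtain ⟨tQ⟩ := pullback_overMap r (cB.π.app j.unop) d
  obtain ⟨tΨ⟩ := pullback_overMap r φ d
  let W : (Spec B).Opens := cB.π.app j.unop ⁻¹ᵁ U'
  refine ⟨d, φ ''ᵁ W, ⟨p, hU', hp⟩, ?_⟩
  let O := πP S ⁻¹ᵁ (φ ''ᵁ W)
  haveI : IsOpenImmersion Ψ := MorphismProperty.of_isPullback
    (P := @IsOpenImmersion.{u}) (BaseChange.isPullback_overMap r φ).flip inferInstance
  have hpre : ∀ z : O, ∃ w, Ψ w = O.ι z ∧ πP (Spec B) w ∈ W := fun z => by
    obtain ⟨q, hq, hqz⟩ := z.2
    obtain ⟨w, hw, hw'⟩ := Scheme.Pullback.exists_preimage_pullback (O.ι z) q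
      (f := πP S) (g := φ) hqz.symm
    refine ⟨(BaseChange.isPullback_overMap r φ).isoPullback.inv w, ?_, ?_⟩
    · rw [← Scheme.Hom.comp_apply, IsPullback.isoPullback_inv_fst]; exact hw
    · rw [← Scheme.Hom.comp_apply, IsPullback.isoPullback_inv_snd, hw']; exact hq
  have hr : Set.range O.ι ⊆ Set.range Ψ := by
    rintro _ ⟨z, rfl⟩
    obtain ⟨w, hw, -⟩ := hpre z
    exact ⟨w, hw⟩
  let h := IsOpenImmersion.lift Ψ O.ι hr
  have hh : h ≫ Ψ = O.ι := IsOpenImmersion.lift_fac _ _ hr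
  have hr' : Set.range (h ≫ Q) ⊆ Set.range (πP (D.obj j.unop) ⁻¹ᵁ U').ι := by
    rw [Scheme.Opens.range_ι]
    rintro _ ⟨z, rfl⟩
    obtain ⟨w, hw, hwW⟩ := hpre z
    have e : h z = w := Ψ.isOpenEmbedding.injective
      ((congrArg (fun a : (O : Scheme.{u}) ⟶ ℙ S => a z) hh).trans hw.symm)
    show πP (D.obj j.unop) (Q (h z)) ∈ U'
    rw [e, ← Scheme.Hom.comp_apply, BaseChange.overMap_toBase, Scheme.Hom.comp_apply]
    exact hwW
  let k := IsOpenImmersion.lift (πP (D.obj j.unop) ⁻¹ᵁ U').ι (h ≫ Q) hr'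
  obtain ⟨i⟩ := iso_of_factor _ Q k h (IsOpenImmersion.lift_fac _ _ hr') hiso
  let back := fun M : (ℙ S).Modules => (Scheme.Modules.pullbackCongr hh.symm).app M ≪≫
    ((Scheme.Modules.pullbackComp h Ψ).app M).symm
  exact ⟨back N ≪≫ (Scheme.Modules.pullback h).mapIso eL.symm ≪≫ i ≪≫
    (Scheme.Modules.pullback h).mapIso (tQ ≪≫ tΨ.symm) ≪≫ (back _).symm⟩

/-- A point of an open of the base compares the twists on it. -/
theorem twist_eq_on (hr : 1 ≤ r) {U : S.Opens} {s : S} (hs : s ∈ U) {d d' : ℤ}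
    (h : Nonempty ((Scheme.Modules.pullback (πP S ⁻¹ᵁ U).ι).obj (Twist.twistOver r S d) ≅
      (Scheme.Modules.pullback (πP S ⁻¹ᵁ U).ι).obj (Twist.twistOver r S d'))) : d = d' := by
  let g := S.fromSpecResidueField s
  have hr' : Set.range (pt r g) ⊆ Set.range (πP S ⁻¹ᵁ U).ι := by
    rw [Scheme.Opens.range_ι]
    rintro _ ⟨z, rfl⟩
    show πP S (pt r g z) ∈ U
    rw [← Scheme.Hom.comp_apply, (isPullback_pt r g).w, Scheme.Hom.comp_apply]
    show S.fromSpecResidueField s _ ∈ U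
    rw [S.fromSpecResidueField_apply]
    exact hs
  obtain ⟨i⟩ := iso_of_factor (P := CohB1.ProjSpace r (S.residueField s)) _ (pt r g)
    (IsOpenImmersion.lift (πP S ⁻¹ᵁ U).ι (pt r g) hr') (𝟙 _)
    ((IsOpenImmersion.lift_fac _ _ hr').trans (Category.id_comp _).symm) h
  exact degree_unique r hr g ⟨((Scheme.Modules.pullbackId _).app _).symm ≪≫ i ≪≫
    (Scheme.Modules.pullbackId _).app _⟩

/-- Uniqueness of the twist and of the module from the base. -/
theorem twist_unique [Nonempty S] (hr : 1 ≤ r) {L L' : S.Modules} (hL : PicF.IsInvertible L)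
    (hL' : PicF.IsInvertible L') {d d' : ℤ}
    (h : Nonempty (CohB1.tensorMod ((Scheme.Modules.pullback (πP S)).obj L) (Twist.twistOver r S d) ≅
      CohB1.tensorMod ((Scheme.Modules.pullback (πP S)).obj L') (Twist.twistOver r S d'))) :
    d = d' ∧ Nonempty (L ≅ L') := by
  letI : ∀ Z : Scheme.{u}, PicGrp.Law Z := TensorMod.Invertible.law
  let p := PicGrp.pullHom (πP S) (TensorMod.Pullback.pullMul (πP S))
  let t := fun d => PicGrp.cls _ (isInvertible_twistOver r S d)
  let a := PicGrp.cls L hL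
  let a' := PicGrp.cls L' hL'
  have heq : p a * t d = p a' * t d' := by
    refine (H3.PicCalc.iso_iff (H3.PicCalc.cl_tensor (a := p a) (b := t d) rfl rfl)
      (H3.PicCalc.cl_tensor (a := p a') (b := t d') rfl rfl)).1 h
  let s : S := Classical.arbitrary S
  let g := S.fromSpecResidueField s
  let q := PicGrp.pullHom (pt r g) (TensorMod.Pullback.pullMul (pt r g))
  let γ := PicGrp.pullHom g (TensorMod.Pullback.pullMul g)
  let δ := PicGrp.pullHom (CohB1.ProjSpace.toSpec r (S.residueField s))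
    (TensorMod.Pullback.pullMul (CohB1.ProjSpace.toSpec r (S.residueField s)))
  have hpa : ∀ b, q (p b) = 1 := fun b => by
    have hw : q (p b) = δ (γ b) := Subtype.ext <| by
      show PicF.pullCl _ (PicF.pullCl _ b.1) = PicF.pullCl _ (PicF.pullCl _ b.1)
      rw [← PicLoc.pullCl_comp, ← PicLoc.pullCl_comp, (isPullback_pt r g).w]
      rfl
    rw [hw, show γ b = 1 from H3.PicCalc.eq_one_of_subsingleton _, map_one]
    rfl
  have hd : d = d' := by
    refine degree_unique r hr g ((PicGrp.cl_eq_cl_iff _ _).1 (congrArg Subtype.val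
      (show q (t d) = q (t d') from ?_)))
    have := congrArg q heq
    rwa [map_mul, map_mul, hpa, hpa, one_mul, one_mul] at this
  subst hd
  refine ⟨rfl, ?_⟩
  obtain ⟨i⟩ := (PicGrp.cl_eq_cl_iff _ _).1 (congrArg Subtype.val (mul_right_cancel heq : p a = p a'))
  have hη : ∀ {M : S.Modules}, PicF.IsInvertible M →
      IsIso ((Scheme.Modules.pullbackPushforwardAdjunction (πP S)).unit.app M) := fun hM =>
    TensorMod.LocIso.isIso_unit_of_isFinLocFree (πP S)
      (fun U => (ConcreteCategory.isIso_iff_bijective _).2 (push_toBase r S U))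
      (TensorMod.LocFree.of_rank (TensorMod.LocFree.of_isInvertible hM))
  haveI := hη hL
  haveI := hη hL'
  exact ⟨asIso ((Scheme.Modules.pullbackPushforwardAdjunction (πP S)).unit.app L) ≪≫
    (Scheme.Modules.pushforward (πP S)).mapIso i ≪≫
    (asIso ((Scheme.Modules.pullbackPushforwardAdjunction (πP S)).unit.app L')).symm⟩

/-- Over a connected base an invertible module is a twist of one from the base. -/
theorem exists_twist [ConnectedSpace S] (N : (ℙ S).Modules) (hN : PicF.IsInvertible N) :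
    ∃ (L : S.Modules) (d : ℤ), PicF.IsInvertible L ∧
      Nonempty (N ≅ CohB1.tensorMod ((Scheme.Modules.pullback (πP S)).obj L) (Twist.twistOver r S d)) := by
  letI : ∀ Z : Scheme.{u}, PicGrp.Law Z := TensorMod.Invertible.law
  let P := fun (d : ℤ) (U : S.Opens) => Nonempty ((Scheme.Modules.pullback (πP S ⁻¹ᵁ U).ι).obj N ≅
      (Scheme.Modules.pullback (πP S ⁻¹ᵁ U).ι).obj (Twist.twistOver r S d))
  have hmono : ∀ {d : ℤ} {U U' : S.Opens}, U' ≤ U → P d U → P d U' := fun {d U U'} hle h => by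
    obtain ⟨i⟩ := iso_of_factor (πP S ⁻¹ᵁ U).ι (𝟙 _)
      ((ℙ S).homOfLE ((πP S).preimage_mono hle)) (πP S ⁻¹ᵁ U').ι
      (by rw [Scheme.homOfLE_ι, Category.comp_id]) h
    exact ⟨(Scheme.Modules.pullback _).mapIso ((Scheme.Modules.pullbackId _).app N).symm ≪≫ i ≪≫
      (Scheme.Modules.pullback _).mapIso ((Scheme.Modules.pullbackId _).app _)⟩
  have hd : ∃ d : ℤ, ∀ s : S, ∃ U : S.Opens, s ∈ U ∧ P d U := by
    choose d U hU hP using exists_nhd r N hN
    let s₀ : S := Classical.arbitrary S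
    by_cases hr : 1 ≤ r
    · have hlc : IsLocallyConstant d := (IsLocallyConstant.iff_exists_open _).2 fun s =>
        ⟨U s, (U s).isOpen, hU s, fun s' hs' => by
          obtain ⟨i⟩ := hmono inf_le_left (hP s') (U' := U s' ⊓ U s)
          obtain ⟨i'⟩ := hmono inf_le_right (hP s) (U' := U s' ⊓ U s)
          exact twist_eq_on r hr (show s' ∈ U s' ⊓ U s from ⟨hU s', hs'⟩) ⟨i.symm ≪≫ i'⟩⟩
      exact ⟨d s₀, fun s => ⟨U s, hU s, hlc.apply_eq_of_preconnectedSpace s₀ s ▸ hP s⟩⟩
    · obtain rfl : r = 0 := by omega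
      refine ⟨0, fun s => ?_⟩
      obtain ⟨d', U', hs', hP'⟩ := exists_nhd 0 N hN s
      obtain ⟨d'', U'', hs'', hP''⟩ := exists_nhd 0 (Twist.twistOver 0 S 0) (isInvertible_twistOver 0 S 0) s
      have hsame : ∀ e e' : ℤ, Nonempty (Twist.twistOver 0 S e ≅ Twist.twistOver 0 S e') := fun e e' => by
        have h0 : ∀ e, Nonempty (Twist.twistProjSpace 0 (ULift.{u} ℤ) e ≅
            Coh.structureModule (CohB1.ProjSpace 0 (ULift.{u} ℤ))) := fun e => by
          have h1 : (⊤ : (CohB1.ProjSpace 0 (ULift.{u} ℤ)).Opens) ≤ PicProj.Main.U 0 (ULift.{u} ℤ) 0 := by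
            refine (Basic.iSup_basicOpen_X_eq_top 0 (ULift.{u} ℤ)).ge.trans (iSup_le fun i => ?_)
            rw [Fin.eq_zero i]
          exact PicGen.OpenUFD.nonempty_iso_of_gen _ ((TwistBC.isGen_gen' (n := 0) (R := ULift.{u} ℤ) e 0).res h1)
        obtain ⟨i⟩ := h0 e
        obtain ⟨i'⟩ := h0 e'
        exact ⟨(Scheme.Modules.pullback _).mapIso (i ≪≫ i'.symm)⟩
      obtain ⟨i⟩ := hP'
      obtain ⟨w⟩ := hsame d' 0
      exact ⟨U', hs', ⟨i ≪≫ (Scheme.Modules.pullback _).mapIso w⟩⟩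
  obtain ⟨d, hd⟩ := hd
  let t := PicGrp.cls _ (isInvertible_twistOver r S d)
  obtain ⟨M, hM, hMc⟩ := PicGrp.exists_eq_cls (PicGrp.cls N hN * t⁻¹)
  have hloc : ∀ s : S, ∃ V : S.Opens, s ∈ V ∧ ∃ l : Γ(M, πP S ⁻¹ᵁ V), IsGen M (πP S ⁻¹ᵁ V) l := fun s => by
    obtain ⟨U, hs, hU⟩ := hd s
    let j := (πP S ⁻¹ᵁ U).ι
    let p := PicGrp.pullHom j (TensorMod.Pullback.pullMul j)
    have h1 : p (PicGrp.cls N hN) = p t := Subtype.ext ((PicGrp.cl_eq_cl_iff _ _).2 hU)
    have h2 : p (PicGrp.cls M hM) = 1 := by rw [← hMc, map_mul, map_inv, h1, mul_inv_cancel]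
    obtain ⟨i⟩ := (PicGrp.cls_eq_one_iff (PicLoc.isInvertible_pullback j hM)).1
      ((PicGrp.pullHom_cls j _ M hM).symm.trans h2)
    exact ⟨U, hs, exists_gen_of_iso ((Scheme.Modules.restrictFunctorIsoPullback j).app M ≪≫ i)⟩
  obtain ⟨L, hL, ⟨e⟩⟩ := Cube.SeesawGlobal.exists_of_local_gen (πP S) (push_toBase r S) M hloc
  refine ⟨L, d, hL, ?_⟩
  have hp : PicF.cl ((Scheme.Modules.pullback (πP S)).obj L) = (PicGrp.cls M hM).1 :=
    (PicGrp.cl_eq_cl_iff _ _).2 ⟨e⟩
  refine (H3.PicCalc.iso_iff (a := PicGrp.cls N hN) (b := PicGrp.cls M hM * t) rfl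
    (H3.PicCalc.cl_tensor hp rfl)).2 ?_
  rw [← hMc, inv_mul_cancel_right]

end Groth.Agent.Lib.PicProjOver
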